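import Groth.Agent.H9ComplFlat.Stalk
import Groth.Agent.FComplLib.Sys
import Groth.Prelude.Def_FSch5
import Mathlib.CategoryTheory.Sites.Limits
import Mathlib.RingTheory.AdicCompletion.AsTensorProduct
import Mathlib.RingTheory.AdicCompletion.Algebra

/-!
# Flatness of the completion of a locally Noetherian scheme
-/

set_option linter.style.haveILetI false
set_option backward.isDefEq.respectTransparency false
set_option backward.isDefEq.respectTransparency.types false
universe u

open CategoryTheory CategoryTheory.Limits AlgebraicGeometry Opposite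

namespace Groth.Agent.H9ComplFlat

theorem appLE_quot {Z X : Scheme.{u}} (i : Z ⟶ X) (V : X.Opens) (W : Z.Opens) (e : W = i ⁻¹ᵁ V)
    (K : Ideal Γ(X, V)) (hs : Function.Surjective (i.app V)) (hk : RingHom.ker (i.app V).hom = K) :
    Function.Surjective (i.appLE V W e.le) ∧ RingHom.ker (i.appLE V W e.le).hom = K := by
  subst e
  rw [← Scheme.Hom.app_eq_appLE]
  exact ⟨hs, hk⟩

variable (X : Scheme.{u}) [IsLocallyNoetherian X] (𝓘 : X.IdealSheafData)
  (h : (FSch.completionAlong X 𝓘).IsFormal)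

theorem flat_app (V : X.affineOpens) :
    ((FSch.schSharp (FSch.completionAlong X 𝓘) h (FSch.completionToX X 𝓘)
      (FSch.completionToX_comm X 𝓘)).hom.app (op V.1)).hom.Flat := by
  classical
  set 𝔛 := FSch.completionAlong X 𝓘
  set p := FSch.completionToX X 𝓘
  set hp := FSch.completionToX_comm X 𝓘
  haveI : IsNoetherianRing Γ(X, V.1) := IsLocallyNoetherian.component_noetherian V
  set J := 𝓘.ideal V with hJ
  set c := ((FSch.schSharp 𝔛 h p hp).hom.app (op V.1)).hom with hc
  let U := p 0 ⁻¹ᵁ V.1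
  let φ : ∀ n, Γ(X, V.1) →+* Γ(𝔛.X n, 𝔛.lvU h n U) := fun n =>
    ((FSch.schLevel 𝔛 h p hp n).hom.app (op V.1)).hom
  have hφ : ∀ n, Function.Surjective (φ n) ∧ RingHom.ker (φ n) = J ^ (n + 1) := fun n =>
    appLE_quot (p n) V.1 _ (FSch.lvU_p 𝔛 h p hp n V.1).symm _
      ((𝓘 ^ (n + 1)).subschemeι_app_surjective V)
      (((𝓘 ^ (n + 1)).ker_subschemeι_app V).trans
        (by rw [Scheme.IdealSheafData.ideal_pow, Pi.pow_apply]))
  let G : Sheaf (Opens.grothendieckTopology (𝔛.X 0)) CommRingCat.{u} ⥤ Type u :=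
    sheafToPresheaf _ _ ⋙ (evaluation _ _).obj (op U) ⋙ CategoryTheory.forget CommRingCat.{u}
  have hlim : IsLimit (G.mapCone (limit.cone (𝔛.levelRing h))) :=
    isLimitOfPreserves G (limit.isLimit _)
  let proj : ∀ n, (𝔛.Osh h).obj.obj (op U) →+* Γ(𝔛.X n, 𝔛.lvU h n U) := fun n =>
    ((𝔛.OshProj h n).hom.app (op U)).hom
  have hproj : ∀ (n : ℕ) (r : Γ(X, V.1)), proj n (c r) = φ n r := fun n r =>
    congrArg (fun m => (m.hom.app (op V.1)).hom r) (FSch.schSharp_proj 𝔛 h p hp n)
  have hmap : ∀ {m n : ℕ} (hmn : m ≤ n) (r : Γ(X, V.1)),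
      (((𝔛.levelRing h).map (homOfLE hmn).op).hom.app (op U)).hom (φ n r) = φ m r := by
    intro m n hmn r
    have := (FSch.schCone 𝔛 h p hp).π.naturality (homOfLE hmn).op
    exact (congrArg (fun q => (q.hom.app (op V.1)).hom r) this).symm
  have hw : ∀ {m n : ℕ} (hmn : m ≤ n) (s : (𝔛.Osh h).obj.obj (op U)) (r : Γ(X, V.1)),
      proj n s = φ n r → proj m s = φ m r := by
    intro m n hmn s r hs
    rw [← hmap hmn r, ← hs]
    exact (congrArg (fun q => (q.hom.app (op U)).hom s)
      (limit.w (𝔛.levelRing h) (homOfLE hmn).op)).symm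
  let e : ∀ n, Γ(X, V.1) ⧸ J ^ (n + 1) ≃+* Γ(𝔛.X n, 𝔛.lvU h n U) := fun n =>
    (Ideal.quotEquivOfEq (hφ n).2.symm).trans (RingHom.quotientKerEquivOfSurjective (hφ n).1)
  have he : ∀ n r, e n (Ideal.Quotient.mk _ r) = φ n r := fun n r => rfl
  let fl : ∀ n, (𝔛.Osh h).obj.obj (op U) →+* Γ(X, V.1) ⧸ J ^ n := fun n =>
    (Ideal.Quotient.factor (Ideal.pow_le_pow_right (Nat.le_succ n))).comp
      ((e n).symm.toRingHom.comp (proj n))
  have hfl : ∀ n s r, proj n s = φ n r → fl n s = Ideal.Quotient.mk _ r := by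
    intro n s r hs
    show Ideal.Quotient.factor (Ideal.pow_le_pow_right (Nat.le_succ n)) ((e n).symm (proj n s)) = _
    rw [hs, ← he, RingEquiv.symm_apply_apply, Ideal.Quotient.factor_mk]
  have hcompat : ∀ {m n : ℕ} (hle : m ≤ n),
      (Ideal.Quotient.factorPow J hle).comp (fl n) = fl m := by
    intro m n hle
    refine RingHom.ext fun s => ?_
    obtain ⟨r, hr⟩ := (hφ n).1 (proj n s)
    rw [RingHom.comp_apply, hfl n s r hr.symm, hfl m s r (hw hle s r hr.symm)]
    exact Ideal.Quotient.factor_mk _ _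
  let Ψ := AdicCompletion.liftRingHom J fl hcompat
  have hev : ∀ n s, AdicCompletion.evalₐ J n (Ψ s) = fl n s := fun n s =>
    AdicCompletion.evalₐ_liftRingHom J fl hcompat n s
  have hΨc : ∀ r, Ψ (c r) = algebraMap Γ(X, V.1) (AdicCompletion J Γ(X, V.1)) r := fun r => by
    refine AdicCompletion.ext_evalₐ fun n => ?_
    rw [hev, hfl n _ r (hproj n r), AlgHom.commutes]
    rfl
  have hinj : Function.Injective Ψ := by
    rw [injective_iff_map_eq_zero]
    intro s hs
    refine (Types.isLimitEquivSections hlim).injective (Subtype.ext (funext fun ⟨n⟩ => ?_))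
    show proj n s = proj n 0
    rw [map_zero]
    obtain ⟨r, hr⟩ := (hφ (n + 1)).1 (proj (n + 1) s)
    have h0 := hev (n + 1) s
    rw [hs, map_zero, hfl (n + 1) s r hr.symm] at h0
    rw [hw (Nat.le_succ n) s r hr.symm, ← RingHom.mem_ker, (hφ n).2]
    exact Ideal.Quotient.eq_zero_iff_mem.1 h0.symm
  have hsurj : Function.Surjective Ψ := by
    intro z
    obtain ⟨q, rfl⟩ := AdicCompletion.mk_surjective J Γ(X, V.1) z
    let r : ℕ → Γ(X, V.1) := fun n => q.val n
    have hrr : ∀ {m n : ℕ}, m ≤ n → φ m (r (n + 1)) = φ m (r (m + 1)) := fun {m n} hmn => by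
      rw [← sub_eq_zero, ← map_sub, ← RingHom.mem_ker, (hφ m).2, ← Ideal.Quotient.eq]
      exact AdicCompletion.Ideal.mk_eq_mk J (Nat.succ_le_succ hmn) q
    let sec : ((𝔛.levelRing h) ⋙ G).sections := ⟨fun n => φ n.unop (r (n.unop + 1)), fun {a b} g => by
      have hle : b.unop ≤ a.unop := leOfHom g.unop
      have : g = (homOfLE hle).op := Subsingleton.elim _ _
      rw [this]
      exact (hmap hle _).trans (hrr hle)⟩
    refine ⟨(Types.isLimitEquivSections hlim).symm sec, AdicCompletion.ext_evalₐ fun n => ?_⟩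
    have hp' : proj n ((Types.isLimitEquivSections hlim).symm sec) = φ n (r (n + 1)) :=
      Types.isLimitEquivSections_symm_apply hlim sec (op n)
    rw [hev, hfl n _ (r (n + 1)) hp', AdicCompletion.evalₐ_mk]
    exact AdicCompletion.Ideal.mk_eq_mk J (Nat.le_succ n) q
  let E := RingEquiv.ofBijective Ψ ⟨hinj, hsurj⟩
  have hfl' : (algebraMap Γ(X, V.1) (AdicCompletion J Γ(X, V.1))).Flat := by
    rw [RingHom.flat_algebraMap_iff]; infer_instance
  have : c = E.symm.toRingHom.comp (algebraMap Γ(X, V.1) (AdicCompletion J Γ(X, V.1))) :=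
    RingHom.ext fun r => (E.eq_symm_apply).2 (hΨc r)
  rw [this]
  exact hfl'.comp (RingHom.Flat.of_bijective E.symm.bijective)

theorem flat_stalk_completion (x : ((FSch.completionAlong X 𝓘).X 0 : Scheme.{u})) :
    ((TopCat.Presheaf.stalkFunctor CommRingCat.{u} ((FSch.completionToX X 𝓘 0).base x)).map
        (FSch.schSharp (FSch.completionAlong X 𝓘) h (FSch.completionToX X 𝓘)
          (FSch.completionToX_comm X 𝓘)).hom ≫
      TopCat.Presheaf.stalkPushforward CommRingCat.{u} (FSch.completionToX X 𝓘 0).base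
        ((FSch.completionAlong X 𝓘).Osh h).obj x).hom.Flat := by
  refine flat_stalk _ (FSch.completionToX X 𝓘 0).isEmbedding.toIsInducing _ _ _ x fun W hW => ?_
  obtain ⟨_, ⟨V, hV, rfl⟩, hxV, hVW⟩ :=
    X.isBasis_affineOpens.exists_subset_of_mem_open hW W.isOpen
  exact ⟨V, hVW, hxV, flat_app X 𝓘 h ⟨V, hV⟩⟩

end Groth.Agent.H9ComplFlat
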