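import Mathlib.RingTheory.Flat.EquationalCriterion
import Mathlib.RingTheory.RingHom.Flat
import Mathlib.Topology.Sheaves.Stalks
import Mathlib.Algebra.Category.Ring.FilteredColimits
import Mathlib.Algebra.Category.Ring.Colimits
import Mathlib.Algebra.Category.Ring.Limits

/-!
# Flatness on stalks from flatness on a basis
-/

set_option linter.style.haveILetI false
set_option backward.isDefEq.respectTransparency false
set_option backward.isDefEq.respectTransparency.types false
universe u

open CategoryTheory TopCat TopologicalSpace Opposite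

namespace Groth.Agent.H9ComplFlat

theorem flat_stalk {X Y : TopCat.{u}} (f : X ⟶ Y) (hf : Topology.IsInducing f)
    (F : TopCat.Presheaf CommRingCat.{u} X) (G : TopCat.Presheaf CommRingCat.{u} Y)
    (c : G ⟶ (TopCat.Presheaf.pushforward CommRingCat.{u} f).obj F) (x : X)
    (hV : ∀ W : Opens Y, f x ∈ W → ∃ V : Opens Y, V ≤ W ∧ f x ∈ V ∧ (c.app (op V)).hom.Flat) :
    ((TopCat.Presheaf.stalkFunctor CommRingCat.{u} (f x)).map c ≫
      TopCat.Presheaf.stalkPushforward CommRingCat.{u} f F x).hom.Flat := by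
  classical
  set Θ := ((TopCat.Presheaf.stalkFunctor CommRingCat.{u} (f x)).map c ≫
      TopCat.Presheaf.stalkPushforward CommRingCat.{u} f F x).hom with hΘ
  have key : ∀ (V : Opens Y) (h : f x ∈ V) (a : G.obj (op V)),
      Θ (G.germ V (f x) h a) = F.germ ((Opens.map f).obj V) x h (c.app (op V) a) := by
    intro V h a
    have := congrArg (fun m => m a)
      ((TopCat.Presheaf.stalkFunctor_map_germ_assoc V (f x) h c
        (TopCat.Presheaf.stalkPushforward CommRingCat.{u} f F x)).trans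
        (congrArg (c.app (op V) ≫ ·) (TopCat.Presheaf.stalkPushforward_germ CommRingCat.{u} f F V x h)))
    exact this
  letI : Algebra (G.stalk (f x)) (F.stalk x) := Θ.toAlgebra
  show Module.Flat (G.stalk (f x)) (F.stalk x)
  refine Module.Flat.iff_forall_isTrivialRelation.mpr fun {l fi xi} h => ?_
  have hGi : ∀ i, ∃ (W : Opens Y) (hW : f x ∈ W) (r : G.obj (op W)), G.germ W (f x) hW r = fi i :=
    fun i => G.exists_germ_eq (fi i)
  have hFi : ∀ i, ∃ (W : Opens Y) (hW : f x ∈ W) (a : F.obj (op ((Opens.map f).obj W))),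
      F.germ _ x hW a = xi i := by
    intro i
    obtain ⟨U, hU, a, ha⟩ := F.exists_germ_eq (xi i)
    obtain ⟨W, hW, hWU⟩ := hf.isOpen_iff.1 U.isOpen
    have hle : (Opens.map f).obj ⟨W, hW⟩ ≤ U := fun y hy => by rw [← SetLike.mem_coe, ← hWU]; exact hy
    have hxW : f x ∈ W := by
      have : x ∈ f ⁻¹' W := by rw [hWU]; exact hU
      exact this
    exact ⟨⟨W, hW⟩, hxW, F.map (homOfLE hle).op a, by rw [TopCat.Presheaf.germ_res_apply, ha]⟩
  choose W hW r hr using hGi
  choose W' hW' a ha using hFi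
  let V0 : Opens Y := Finset.univ.inf fun i => W i ⊓ W' i
  have hx0 : f x ∈ V0 :=
    Finset.inf_induction (p := fun U : Opens Y => f x ∈ U) trivial (fun _ h₁ _ h₂ => ⟨h₁, h₂⟩)
      fun i _ => ⟨hW i, hW' i⟩
  have hle : ∀ i, V0 ≤ W i ⊓ W' i := fun i => Finset.inf_le (Finset.mem_univ i)
  let r0 : ∀ i, G.obj (op V0) := fun i => G.map (homOfLE ((hle i).trans inf_le_left)).op (r i)
  let a0 : ∀ i, F.obj (op ((Opens.map f).obj V0)) := fun i =>
    F.map ((Opens.map f).map (homOfLE ((hle i).trans inf_le_right))).op (a i)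
  let cV : ∀ V : Opens Y, G.obj (op V) →+* F.obj (op ((Opens.map f).obj V)) := fun V => (c.app (op V)).hom
  let s := ∑ i, cV V0 (r0 i) * a0 i
  have hs : F.germ ((Opens.map f).obj V0) x hx0 s = 0 := by
    rw [← h, map_sum]
    refine Finset.sum_congr rfl fun i _ => ?_
    rw [map_mul, show cV V0 (r0 i) = c.app (op V0) (r0 i) from rfl, ← key, TopCat.Presheaf.germ_res_apply, TopCat.Presheaf.germ_res_apply', hr, ha]
    rfl
  rw [← map_zero (F.germ ((Opens.map f).obj V0) x hx0).hom] at hs
  obtain ⟨U, hxU, i₁, i₂, heq⟩ := F.germ_eq x hx0 hx0 s 0 hs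
  obtain ⟨W'', hW'', hWU⟩ := hf.isOpen_iff.1 U.isOpen
  have hxW : f x ∈ W'' := by
    have : x ∈ f ⁻¹' W'' := by rw [hWU]; exact hxU
    exact this
  obtain ⟨V, hVle, hxV, hflat⟩ := hV (V0 ⊓ ⟨W'', hW''⟩) ⟨hx0, hxW⟩
  have hVU : (Opens.map f).obj V ≤ U := fun y hy => by
    rw [← SetLike.mem_coe, ← hWU]
    exact (hVle hy).2
  let jV : V ⟶ V0 := homOfLE (hVle.trans inf_le_left)
  have hsV : F.map ((Opens.map f).map jV).op s = 0 := by
    have e := congrArg (F.map (homOfLE hVU).op) heq
    rw [map_zero, map_zero, ← CategoryTheory.comp_apply, ← F.map_comp] at e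
    exact e
  letI : Algebra (G.obj (op V)) (F.obj (op ((Opens.map f).obj V))) := (c.app (op V)).hom.toAlgebra
  haveI : Module.Flat (G.obj (op V)) (F.obj (op ((Opens.map f).obj V))) := hflat
  have hrel : ∑ i, G.map jV.op (r0 i) • F.map ((Opens.map f).map jV).op (a0 i) = 0 := by
    rw [← hsV, map_sum]
    refine Finset.sum_congr rfl fun i _ => ?_
    rw [map_mul]
    show cV V (G.map jV.op (r0 i)) * _ = _
    congr 1
    exact congrArg (fun m => m (r0 i)) (c.naturality jV.op)
  obtain ⟨k, A, y, hxy, hA⟩ := Module.Flat.isTrivialRelation_of_sum_smul_eq_zero hrel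
  refine ⟨k, fun i j => G.germ V (f x) hxV (A i j), fun j => F.germ _ x hxV (y j), fun i => ?_, fun j => ?_⟩
  · have e := congrArg (F.germ _ x hxV) (hxy i)
    rw [TopCat.Presheaf.germ_res_apply', TopCat.Presheaf.germ_res_apply', ha, map_sum] at e
    rw [e]
    refine Finset.sum_congr rfl fun j _ => ?_
    rw [Algebra.smul_def, Algebra.smul_def, map_mul]
    show F.germ _ x hxV (cV V (A i j)) * _ = Θ _ * _
    rw [key]
    rfl
  · have e := congrArg (G.germ V (f x) hxV) (hA j)
    rw [map_sum, map_zero] at e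
    rw [← e]
    refine Finset.sum_congr rfl fun i _ => ?_
    rw [map_mul, TopCat.Presheaf.germ_res_apply, TopCat.Presheaf.germ_res_apply, hr]

end Groth.Agent.H9ComplFlat
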